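import Groth.Prelude.Def_ConstAct2
import Groth.Prelude.Def_Hoch

/-!
# Coactions of the algebra of functions on a finite group
-/

universe u

open TensorProduct

noncomputable section

namespace Groth.Agent.ConstAct23

variable (R : Type u) [CommRing R] (B : Type u) [CommRing B] [Algebra R B]
variable {Γ : Type u} [Group Γ] [Fintype Γ] [DecidableEq Γ]

/-- The component at a group element. -/
def sl (γ : Γ) : B ⊗[R] ConstGrp.F R Γ →ₐ[R] B :=
  Algebra.TensorProduct.lift (AlgHom.id R B) ((Algebra.ofId R B).comp (ConstGrp.ev R γ)) fun _ _ => Commute.all _ _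

@[simp] theorem sl_tmul (γ : Γ) (b : B) (f : ConstGrp.F R Γ) : sl R B γ (b ⊗ₜ[R] f) = f γ • b := by
  simp [sl, Algebra.smul_def, mul_comm]

theorem eq_sum_sl (z : B ⊗[R] ConstGrp.F R Γ) : z = ∑ g : Γ, sl R B g z ⊗ₜ[R] ConstGrp.e R g := by
  induction z with
  | zero => simp
  | add p q hp hq =>
    simp only [map_add, TensorProduct.add_tmul, Finset.sum_add_distrib, ← hp, ← hq]
  | tmul b f =>
    simp only [sl_tmul, TensorProduct.smul_tmul, ← TensorProduct.tmul_sum, ← ConstGrp.eq_sum_smul_e]

theorem ext_sl {z w : B ⊗[R] ConstGrp.F R Γ} (h : ∀ g : Γ, sl R B g z = sl R B g w) : z = w := by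
  rw [eq_sum_sl R B z, eq_sum_sl R B w]
  simp only [h]

variable [HopfRep.Comod R (ConstGrp.F R Γ) B]

/-- The endomorphism attached to a group element by a coaction. -/
def smulFun (γ : Γ) : B →ₗ[R] B := (sl R B γ).toLinearMap ∘ₗ HopfRep.Comod.coact (k := R) (A := ConstGrp.F R Γ)

theorem smulFun_apply (γ : Γ) (b : B) :
    smulFun R B γ b = sl R B γ (HopfRep.Comod.coact (k := R) (A := ConstGrp.F R Γ) b) := rfl

theorem smulFun_one (b : B) : smulFun R B (1 : Γ) b = b := by
  have h := LinearMap.congr_fun (HopfRep.Comod.counit_comp (k := R) (A := ConstGrp.F R Γ) (V := B)) b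
  simp only [LinearMap.comp_apply, LinearMap.flip_apply, TensorProduct.mk_apply] at h
  have e : ∀ z : B ⊗[R] ConstGrp.F R Γ,
      sl R B (1 : Γ) z = TensorProduct.rid R B ((CoalgebraStruct.counit (R := R)).lTensor B z) := by
    intro z
    induction z with
    | zero => simp
    | add p q hp hq => simp only [map_add, hp, hq]
    | tmul p q =>
      rw [sl_tmul, LinearMap.lTensor_tmul, TensorProduct.rid_tmul]
      rfl
  rw [smulFun_apply, e, h, TensorProduct.rid_tmul, one_smul]

theorem smulFun_mul (γ δ : Γ) (b : B) : smulFun R B (γ * δ) b = smulFun R B γ (smulFun R B δ b) := by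
  let Φ : B ⊗[R] (ConstGrp.F R Γ ⊗[R] ConstGrp.F R Γ) →ₗ[R] B :=
    (TensorProduct.rid R B).toLinearMap ∘ₗ LinearMap.lTensor B
      ((LinearMap.mul' R R) ∘ₗ TensorProduct.map (ConstGrp.ev R γ).toLinearMap (ConstGrp.ev R δ).toLinearMap)
  have h := congrArg Φ (LinearMap.congr_fun (HopfRep.Comod.coassoc (k := R) (A := ConstGrp.F R Γ) (V := B)) b)
  simp only [LinearMap.comp_apply, LinearEquiv.coe_coe] at h
  have e1 : ∀ z : B ⊗[R] ConstGrp.F R Γ,
      Φ (TensorProduct.assoc R B (ConstGrp.F R Γ) (ConstGrp.F R Γ)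
        ((HopfRep.Comod.coact (k := R) (A := ConstGrp.F R Γ)).rTensor (ConstGrp.F R Γ) z)) =
      smulFun R B γ (sl R B δ z) := by
    intro z
    induction z with
    | zero => simp
    | add p q hp hq => simp only [map_add, hp, hq]
    | tmul p q =>
      rw [sl_tmul, map_smul, smulFun_apply, LinearMap.rTensor_tmul]
      generalize HopfRep.Comod.coact (k := R) (A := ConstGrp.F R Γ) p = w
      induction w with
      | zero => simp
      | add r s hr hs => simp only [TensorProduct.add_tmul, map_add, hr, hs, smul_add]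
      | tmul r s => simp [Φ, smul_smul, mul_comm]
  have e2 : ∀ z : B ⊗[R] ConstGrp.F R Γ,
      Φ ((CoalgebraStruct.comul (R := R) (A := ConstGrp.F R Γ)).lTensor B z) = sl R B (γ * δ) z := by
    intro z
    induction z with
    | zero => simp
    | add p q hp hq => simp only [map_add, hp, hq]
    | tmul p q =>
      rw [LinearMap.lTensor_tmul, sl_tmul]
      show (LinearMap.mul' R R) (TensorProduct.map (ConstGrp.ev R γ).toLinearMap (ConstGrp.ev R δ).toLinearMap
        (CoalgebraStruct.comul (R := R) q)) • p = _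
      congr 1
      rw [← ConstGrp.pair_comul R Γ q γ δ]
      generalize CoalgebraStruct.comul (R := R) q = w
      induction w with
      | zero => simp
      | add r s hr hs => simp only [map_add, hr, hs]; rfl
      | tmul r s => simp
  rw [e1, e2] at h
  exact h.symm

variable [GLin.IsCoactAlg R (ConstGrp.F R Γ) B]

/-- The action attached to a comodule algebra. -/
@[reducible] def action : MulSemiringAction Γ B where
  smul γ b := smulFun R B γ b
  one_smul b := smulFun_one R B b
  mul_smul γ δ b := smulFun_mul R B γ δ b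
  smul_zero γ := map_zero (smulFun R B γ)
  smul_add γ := map_add (smulFun R B γ)
  smul_one γ := by
    show sl R B γ (HopfRep.Comod.coact (k := R) (A := ConstGrp.F R Γ) (1 : B)) = 1
    rw [GLin.IsCoactAlg.coact_one, map_one]
  smul_mul γ a b := by
    show sl R B γ (HopfRep.Comod.coact (k := R) (A := ConstGrp.F R Γ) (a * b)) = sl R B γ _ * sl R B γ _
    rw [GLin.IsCoactAlg.coact_mul, map_mul]

end Groth.Agent.ConstAct23
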